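import Mathlib
import Groth.Prelude.Def_EtRam

/-!
Eisenstein polynomials over discrete valuation rings: the ring `A[X]/f` and the valuation rings over it.
-/

set_option linter.all false

universe u

open Polynomial IsLocalRing

namespace EtRamEis

variable {A : Type u} [CommRing A] [IsDomain A] [IsDiscreteValuationRing A] {f : A[X]}

lemma irreducible (hmon : f.Monic) (hf : f.IsEisensteinAt (maximalIdeal A)) (hn : 0 < f.natDegree) : Irreducible f :=
  hf.irreducible (IsLocalRing.maximalIdeal.isMaximal A).isPrime hmon.isPrimitive hn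

lemma isDomain (hmon : f.Monic) (hf : f.IsEisensteinAt (maximalIdeal A)) (hn : 0 < f.natDegree) : IsDomain (AdjoinRoot f) :=
  AdjoinRoot.isDomain_of_prime (irreducible hmon hf hn).prime

lemma exists_split (y : AdjoinRoot f) : ∃ a z, y = algebraMap A _ a + AdjoinRoot.root f * z := by
  obtain ⟨p, rfl⟩ := AdjoinRoot.mk_surjective y
  refine ⟨p.coeff 0, AdjoinRoot.mk f p.divX, ?_⟩
  conv_lhs => rw [← X_mul_divX_add p]
  rw [map_add, map_mul, AdjoinRoot.mk_X, AdjoinRoot.mk_C, add_comm]
  rfl

/-- `root ^ n = π * (unit)` modulo the root: the key identity. -/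
lemma root_pow_eq (hmon : f.Monic) (hf : f.IsEisensteinAt (maximalIdeal A)) (hn : 0 < f.natDegree) {π : A}
    (hπ : maximalIdeal A = Ideal.span {π}) :
    ∃ (c : A) (z : AdjoinRoot f), IsUnit c ∧
      AdjoinRoot.root f ^ f.natDegree = algebraMap A _ π * (algebraMap A _ c + AdjoinRoot.root f * z) := by
  have hc : ∀ i, i < f.natDegree → ∃ c, f.coeff i = π * c := fun i hi =>
    Ideal.mem_span_singleton.mp (hπ ▸ hf.mem hi)
  choose! c hc using hc
  have hc0 : IsUnit (c 0) := by
    by_contra hu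
    obtain ⟨d, hd⟩ := Ideal.mem_span_singleton.mp (hπ ▸ (mem_maximalIdeal (c 0)).mpr hu)
    refine hf.notMem ?_
    rw [hπ, Ideal.span_singleton_pow, Ideal.mem_span_singleton]
    exact ⟨d, by rw [hc 0 hn, hd]; ring⟩
  refine ⟨-c 0, -∑ i ∈ Finset.range (f.natDegree - 1), algebraMap A _ (c (i + 1)) * AdjoinRoot.root f ^ i, hc0.neg, ?_⟩
  have h0 : aeval (AdjoinRoot.root f) f = 0 := by rw [AdjoinRoot.aeval_eq, AdjoinRoot.mk_self]
  obtain ⟨m, hm⟩ : ∃ m, f.natDegree = m + 1 := ⟨f.natDegree - 1, by omega⟩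
  rw [aeval_eq_sum_range, Finset.sum_range_succ, hmon.coeff_natDegree, one_smul, hm, Finset.sum_range_succ'] at h0
  rw [hm, eq_neg_of_add_eq_zero_right h0, Nat.add_sub_cancel, map_neg, mul_add, ← mul_assoc, mul_neg, mul_neg, pow_zero,
    hc 0 hn, neg_add, Finset.mul_sum]
  rw [add_comm]
  congr 1
  · rw [Algebra.smul_def, map_mul, mul_one]
  · refine congrArg Neg.neg (Finset.sum_congr rfl fun i hi => ?_)
    have hi' := Finset.mem_range.mp hi
    rw [hc (i + 1) (by omega), Algebra.smul_def, map_mul]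
    ring

lemma isMaximal_eq (hmon : f.Monic) (hf : f.IsEisensteinAt (maximalIdeal A)) (hn : 0 < f.natDegree)
    (M : Ideal (AdjoinRoot f)) (hM : M.IsMaximal) : M = Ideal.span {AdjoinRoot.root f} := by
  haveI : Module.Finite A (AdjoinRoot f) := hmon.finite_adjoinRoot
  obtain ⟨π, hπ'⟩ := IsDiscreteValuationRing.exists_irreducible A
  have hπ := (IsDiscreteValuationRing.irreducible_iff_uniformizer π).mp hπ'
  have hc : M.comap (algebraMap A (AdjoinRoot f)) = maximalIdeal A :=
    eq_maximalIdeal (Ideal.isMaximal_comap_of_isIntegral_of_isMaximal M)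
  obtain ⟨c, z, hcu, hrz⟩ := root_pow_eq hmon hf hn hπ
  have hπM : algebraMap A (AdjoinRoot f) π ∈ M := by
    rw [← Ideal.mem_comap, hc, hπ]; exact Ideal.mem_span_singleton_self π
  have hxM : AdjoinRoot.root f ∈ M := hM.isPrime.mem_of_pow_mem _ (hrz ▸ Ideal.mul_mem_right _ _ hπM)
  refine le_antisymm (fun y hy => ?_) ((Ideal.span_singleton_le_iff_mem _).mpr hxM)
  obtain ⟨a, w, rfl⟩ := exists_split y
  have ha : a ∈ M.comap (algebraMap A (AdjoinRoot f)) := (Ideal.add_mem_iff_left M (Ideal.mul_mem_right _ _ hxM)).mp hy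
  rw [hc, hπ, Ideal.mem_span_singleton] at ha
  obtain ⟨d, rfl⟩ := ha
  -- `π` is a multiple of the root
  have hu : IsUnit (algebraMap A (AdjoinRoot f) c + AdjoinRoot.root f * z) := by
    by_contra hnu
    obtain ⟨N, hN, hmemN⟩ := exists_max_ideal_of_mem_nonunits hnu
    have hcN : N.comap (algebraMap A (AdjoinRoot f)) = maximalIdeal A :=
      eq_maximalIdeal (Ideal.isMaximal_comap_of_isIntegral_of_isMaximal N)
    have hπN : algebraMap A (AdjoinRoot f) π ∈ N := by
      rw [← Ideal.mem_comap, hcN, hπ]; exact Ideal.mem_span_singleton_self π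
    have hxN : AdjoinRoot.root f ∈ N := hN.isPrime.mem_of_pow_mem _ (hrz ▸ Ideal.mul_mem_right _ _ hπN)
    have : c ∈ maximalIdeal A := by
      rw [← hcN, Ideal.mem_comap]
      exact (Ideal.add_mem_iff_left N (Ideal.mul_mem_right _ _ hxN)).mp hmemN
    exact this hcu
  rw [Ideal.mem_span_singleton]
  refine dvd_add ?_ (dvd_mul_right _ _)
  rw [map_mul]
  refine Dvd.dvd.mul_right ?_ _
  refine (IsUnit.dvd_mul_right hu).mp ?_
  rw [← hrz]
  exact dvd_pow_self _ (by omega)

theorem exists_isDVR (hmon : f.Monic) (hf : f.IsEisensteinAt (maximalIdeal A)) (hn : 0 < f.natDegree) :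
    ∃ (_ : IsDomain (AdjoinRoot f)) (_ : IsDiscreteValuationRing (AdjoinRoot f)),
      maximalIdeal (AdjoinRoot f) = Ideal.span {AdjoinRoot.root f} ∧
      (∀ π : A, maximalIdeal A = Ideal.span {π} →
        Associated (algebraMap A (AdjoinRoot f) π) (AdjoinRoot.root f ^ f.natDegree)) ∧
      Function.Injective (algebraMap A (AdjoinRoot f)) := by
  haveI hdom := isDomain hmon hf hn
  haveI : Module.Finite A (AdjoinRoot f) := hmon.finite_adjoinRoot
  haveI : IsNoetherianRing (AdjoinRoot f) := IsNoetherianRing.of_finite A (AdjoinRoot f)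
  obtain ⟨M₀, hM₀⟩ := Ideal.exists_maximal (AdjoinRoot f)
  haveI : IsLocalRing (AdjoinRoot f) :=
    IsLocalRing.of_unique_max_ideal ⟨M₀, hM₀, fun M hM => (isMaximal_eq hmon hf hn M hM).trans (isMaximal_eq hmon hf hn M₀ hM₀).symm⟩
  have hmax : maximalIdeal (AdjoinRoot f) = Ideal.span {AdjoinRoot.root f} := isMaximal_eq hmon hf hn _ inferInstance
  have hinj : Function.Injective (algebraMap A (AdjoinRoot f)) :=
    AdjoinRoot.of.injective_of_degree_ne_zero fun h => by
      rw [degree_eq_natDegree hmon.ne_zero] at h; norm_cast at h; omega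
  have hassoc : ∀ π : A, maximalIdeal A = Ideal.span {π} →
      Associated (algebraMap A (AdjoinRoot f) π) (AdjoinRoot.root f ^ f.natDegree) := by
    intro π hπ
    obtain ⟨c, z, hcu, hrz⟩ := root_pow_eq hmon hf hn hπ
    rw [hrz]
    refine (associated_mul_unit_left _ _ ?_).symm
    refine IsLocalRing.notMem_maximalIdeal.mp fun h => ?_
    rw [hmax] at h
    have h1 : algebraMap A (AdjoinRoot f) c ∈ Ideal.span {AdjoinRoot.root f} :=
      (Ideal.add_mem_iff_left _ (Ideal.mul_mem_right _ _ (Ideal.mem_span_singleton_self _))).mp h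
    rw [← hmax] at h1
    exact h1 (hcu.map _)
  obtain ⟨π, hπ'⟩ := IsDiscreteValuationRing.exists_irreducible A
  have hπ := (IsDiscreteValuationRing.irreducible_iff_uniformizer π).mp hπ'
  have hroot : AdjoinRoot.root f ≠ 0 := fun h => hπ'.ne_zero (hinj (by
    rw [map_zero]
    have := hassoc π hπ
    rw [h, zero_pow (by omega), associated_zero_iff_eq_zero] at this
    exact this))
  have hnf : ¬ IsField (AdjoinRoot f) := fun h => hroot (by
    rw [IsLocalRing.isField_iff_maximalIdeal_eq, hmax, Ideal.span_singleton_eq_bot] at h; exact h)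
  haveI hdvr : IsDiscreteValuationRing (AdjoinRoot f) :=
    ((IsDiscreteValuationRing.TFAE (AdjoinRoot f) hnf).out 0 4 rfl rfl).mpr (by rw [hmax]; exact ⟨⟨_, rfl⟩⟩)
  exact ⟨hdom, hdvr, hmax, hassoc, hinj⟩

section Field

variable {M : Type u} [Field M] {g : A →+* M} {y : M}

/-- A root of an Eisenstein polynomial has positive valuation at any valuation ring dominating the base. -/
lemma valuation_root_lt_one (hmon : f.Monic) (hf : f.IsEisensteinAt (maximalIdeal A)) (hn : 0 < f.natDegree)
    (hy : f.eval₂ g y = 0) (W : ValuationSubring M) (hW : EtRam.Dominates A g W) : W.valuation y < 1 := by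
  by_contra hge
  rw [not_lt] at hge
  have hy' : y ^ f.natDegree = -∑ i ∈ Finset.range f.natDegree, g (f.coeff i) * y ^ i := by
    have h1 := hy
    conv_lhs at h1 => rw [hmon.as_sum]
    rw [eval₂_add, eval₂_pow, eval₂_X, eval₂_finsetSum] at h1
    simp only [eval₂_mul, eval₂_C, eval₂_pow, eval₂_X] at h1
    exact eq_neg_of_add_eq_zero_left h1
  have hlt : ∀ i ∈ Finset.range f.natDegree, W.valuation (g (f.coeff i) * y ^ i) < W.valuation (y ^ f.natDegree) := by
    intro i hi
    have hi' := Finset.mem_range.mp hi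
    rw [map_mul, map_pow, map_pow]
    calc W.valuation (g (f.coeff i)) * W.valuation y ^ i < 1 * W.valuation y ^ i :=
          mul_lt_mul_of_pos_right (hW.2 _ (hf.mem hi')) (pow_pos (lt_of_lt_of_le zero_lt_one hge) i)
      _ ≤ W.valuation y ^ f.natDegree := by rw [one_mul]; exact pow_le_pow_right₀ hge hi'.le
  have hne : W.valuation (y ^ f.natDegree) ≠ 0 := by
    rw [map_pow]; exact pow_ne_zero _ (ne_of_gt (lt_of_lt_of_le zero_lt_one hge))
  refine lt_irrefl (W.valuation (y ^ f.natDegree)) ?_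
  conv_lhs => rw [hy', Valuation.map_neg]
  exact Valuation.map_sum_lt _ hne hlt

lemma lift_mem (hmon : f.Monic) (hf : f.IsEisensteinAt (maximalIdeal A)) (hn : 0 < f.natDegree)
    (hy : f.eval₂ g y = 0) (W : ValuationSubring M) (hW : EtRam.Dominates A g W) (p : AdjoinRoot f) :
    AdjoinRoot.lift g y hy p ∈ W := by
  have hyW : y ∈ W := (W.valuation_le_one_iff _).mp (valuation_root_lt_one hmon hf hn hy W hW).le
  obtain ⟨p, rfl⟩ := AdjoinRoot.mk_surjective p
  rw [AdjoinRoot.lift_mk, eval₂_eq_sum_range]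
  exact sum_mem fun i _ => mul_mem (hW.1 _) (pow_mem hyW i)

/-- If `M` is generated by the root then the only valuation ring dominating `A` is the image of `A[X]/f`. -/
lemma mem_iff_exists (hmon : f.Monic) (hf : f.IsEisensteinAt (maximalIdeal A)) (hn : 0 < f.natDegree)
    (hy : f.eval₂ g y = 0) (hgen : ∀ z : M, ∃ a b : AdjoinRoot f, AdjoinRoot.lift g y hy b ≠ 0 ∧
      z = AdjoinRoot.lift g y hy a / AdjoinRoot.lift g y hy b)
    (W : ValuationSubring M) (hW : EtRam.Dominates A g W) (z : M) :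
    z ∈ W ↔ ∃ a, AdjoinRoot.lift g y hy a = z := by
  obtain ⟨_, _, hmax, -, -⟩ := exists_isDVR hmon hf hn
  refine ⟨fun hz => ?_, ?_⟩
  · obtain ⟨a, b, hb, rfl⟩ := hgen z
    rcases ValuationRing.dvd_total b a with ⟨c, rfl⟩ | ⟨c, rfl⟩
    · exact ⟨c, by rw [map_mul, mul_div_cancel_left₀ _ hb]⟩
    · rw [map_mul] at hb hz ⊢
      have ha := left_ne_zero_of_mul hb
      rw [div_mul_cancel_left₀ ha] at hz ⊢
      by_cases hc : IsUnit c
      · obtain ⟨u, rfl⟩ := hc
        exact ⟨↑u⁻¹, by rw [map_units_inv]⟩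
      · exfalso
        obtain ⟨d, rfl⟩ := Ideal.mem_span_singleton.mp (hmax ▸ (mem_maximalIdeal c).mpr hc)
        have hc0 := right_ne_zero_of_mul hb
        rw [map_mul, AdjoinRoot.lift_root] at hz hc0
        have h1 : W.valuation ((y * AdjoinRoot.lift g y hy d)⁻¹ * (y * AdjoinRoot.lift g y hy d)) < 1 := by
          rw [map_mul, map_mul (W.valuation) y]
          exact (mul_le_of_le_one_left zero_le ((W.valuation_le_one_iff _).mpr hz)).trans_lt
            ((mul_le_of_le_one_right zero_le ((W.valuation_le_one_iff _).mpr (lift_mem hmon hf hn hy W hW d))).trans_lt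
              (valuation_root_lt_one hmon hf hn hy W hW))
        rw [inv_mul_cancel₀ hc0, map_one] at h1
        exact lt_irrefl _ h1
  · rintro ⟨a, rfl⟩
    exact lift_mem hmon hf hn hy W hW a

/-- A field generated by a root of an Eisenstein polynomial is totally ramified. -/
theorem isTotallyRamified (hmon : f.Monic) (hf : f.IsEisensteinAt (maximalIdeal A)) (hn : 0 < f.natDegree)
    (hy : f.eval₂ g y = 0) (hinj : Function.Injective (AdjoinRoot.lift g y hy))
    (hgen : ∀ z : M, ∃ a b : AdjoinRoot f, AdjoinRoot.lift g y hy b ≠ 0 ∧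
      z = AdjoinRoot.lift g y hy a / AdjoinRoot.lift g y hy b) :
    EtRam.IsTotallyRamified A g := by
  refine ⟨?_, fun V V' h h' => SetLike.ext fun z => ?_, fun V h => ?_⟩
  · obtain ⟨_, _, hmax, -, -⟩ := exists_isDVR hmon hf hn
    let ψ := AdjoinRoot.lift g y hy
    obtain ⟨W, hle, hloc⟩ := (LocalSubring.range ψ).exists_le_valuationSubring
    have hmem : ∀ a, ψ a ∈ W := fun a => hle ⟨a, rfl⟩
    refine ⟨W, fun a => ?_, fun a ha => ?_⟩
    · rw [← AdjoinRoot.lift_of (i := g) (a := y) hy (x := a)]; exact hmem _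
    · have hg : g a = ψ (AdjoinRoot.of f a) := (AdjoinRoot.lift_of (i := g) (a := y) hy (x := a)).symm
      rw [hg]
      refine (W.valuation_lt_one_iff ⟨_, hmem _⟩).mp fun hu => ?_
      obtain ⟨⟨_, e, rfl⟩, he⟩ := isUnit_iff_exists_inv.mp
        (hloc.map_nonunit (⟨ψ (AdjoinRoot.of f a), _, rfl⟩ : ψ.range) hu)
      have he' : ψ (AdjoinRoot.of f a * e) = ψ 1 := by rw [map_mul, map_one]; exact congrArg Subtype.val he
      have hua : IsUnit (algebraMap A (AdjoinRoot f) a) := IsUnit.of_mul_eq_one _ (hinj he')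
      obtain ⟨π, hπ'⟩ := IsDiscreteValuationRing.exists_irreducible A
      have hπ := (IsDiscreteValuationRing.irreducible_iff_uniformizer π).mp hπ'
      obtain ⟨_, _, hmax', hassoc, -⟩ := exists_isDVR hmon hf hn
      obtain ⟨c, rfl⟩ := Ideal.mem_span_singleton.mp (hπ ▸ ha)
      rw [map_mul] at hua
      have hur := (hassoc π hπ).isUnit (isUnit_of_mul_isUnit_left hua)
      rw [isUnit_pow_iff (by omega)] at hur
      have hrm : AdjoinRoot.root f ∈ maximalIdeal (AdjoinRoot f) := by rw [hmax']; exact Ideal.mem_span_singleton_self _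
      exact hrm hur
  · rw [mem_iff_exists hmon hf hn hy hgen V h, mem_iff_exists hmon hf hn hy hgen V' h']
  · intro r
    obtain ⟨⟨z, hz⟩, rfl⟩ := IsLocalRing.residue_surjective r
    obtain ⟨p, rfl⟩ := (mem_iff_exists hmon hf hn hy hgen V h z).mp hz
    obtain ⟨a, w, rfl⟩ := exists_split p
    refine ⟨a, Ideal.Quotient.eq.mpr ?_⟩
    rw [IsLocalRing.mem_maximalIdeal, ← IsLocalRing.mem_maximalIdeal, V.valuation_lt_one_iff]
    show V.valuation (g a - AdjoinRoot.lift g y hy _) < 1
    rw [map_add (AdjoinRoot.lift g y hy), AdjoinRoot.algebraMap_eq, AdjoinRoot.lift_of, sub_add_cancel_left, Valuation.map_neg,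
      map_mul (AdjoinRoot.lift g y hy), AdjoinRoot.lift_root, map_mul]
    exact (mul_le_of_le_one_right zero_le ((V.valuation_le_one_iff _).mpr (lift_mem hmon hf hn hy V h w))).trans_lt
      (valuation_root_lt_one hmon hf hn hy V h)

end Field

end EtRamEis

namespace EtRamEis

/-- If `M` is generated by `y` over the fraction field, every element is a fraction of values at `y`. -/
lemma exists_div_of_gen {A K M : Type u} [CommRing A] [IsDomain A] [Field K] [Algebra A K] [IsFractionRing A K] [Field M]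
    [Algebra K M] [Algebra A M] [IsScalarTower A K M] {f : A[X]} {y : M} (hy : f.eval₂ (algebraMap A M) y = 0)
    (hgen : ∀ z : M, ∃ p : K[X], aeval y p = z) (z : M) :
    ∃ a b : AdjoinRoot f, AdjoinRoot.lift (algebraMap A M) y hy b ≠ 0 ∧
      z = AdjoinRoot.lift (algebraMap A M) y hy a / AdjoinRoot.lift (algebraMap A M) y hy b := by
  obtain ⟨p, rfl⟩ := hgen z
  obtain ⟨b, hb⟩ := IsLocalization.integerNormalization_map_to_map (nonZeroDivisors A) p
  have hb0 : algebraMap A M b ≠ 0 := by
    rw [IsScalarTower.algebraMap_apply A K M, map_ne_zero_iff _ (algebraMap K M).injective]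
    exact IsFractionRing.to_map_ne_zero_of_mem_nonZeroDivisors b.2
  refine ⟨AdjoinRoot.mk f (IsLocalization.integerNormalization (nonZeroDivisors A) p), AdjoinRoot.of f b, ?_, ?_⟩
  · rw [AdjoinRoot.lift_of]; exact hb0
  · rw [AdjoinRoot.lift_of, AdjoinRoot.lift_mk, ← aeval_def, eq_div_iff hb0]
    rw [← aeval_map_algebraMap K y (IsLocalization.integerNormalization (nonZeroDivisors A) p), hb, Algebra.smul_def,
      map_mul, Polynomial.algebraMap_apply, aeval_C, ← IsScalarTower.algebraMap_apply, mul_comm]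

end EtRamEis
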